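/-
No class size divisible by four implies solvable, given the odd order theorem.
-/
import Cfsg.Agent.Lib.Frobenius.SquarefreeClasses
import Cfsg.Agent.Lib.OddOrderApps.HallExtension

set_option autoImplicit false
set_option linter.style.haveILetI false

namespace CfsgLib.OddOrderApps

open Cfsg

universe u

variable {G : Type u} [Group G] [Finite G]

/-- A group with a normal `2`-complement is solvable, given the odd order theorem. -/
theorem isSolvable_of_hasNormalPComplement_two (hFT : OddOrder.{u})
    (h : HasNormalPComplement 2 G) : Group.IsSolvable G := by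
  haveI := Fact.mk Nat.prime_two
  have hodd : Odd (Nat.card (pPrimeCore 2 G)) :=
    Nat.coprime_two_right.mp (Cores.card_pPrimeCore_coprime 2)
  haveI : Group.IsSolvable (pPrimeCore 2 G) := hFT _ hodd
  haveI : Group.IsNilpotent (G ⧸ pPrimeCore 2 G) :=
    (NormalPComplement.hasNormalPComplement_iff_isPGroup_quotient.1 h).isNilpotent
  exact Group.isSolvable_of_ker_le_range (pPrimeCore 2 G).subtype
    (QuotientGroup.mk' (pPrimeCore 2 G)) (by rw [QuotientGroup.ker_mk', Subgroup.range_subtype])

/-- No conjugacy class size divisible by `4` implies solvable, given the odd order theorem. -/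
theorem isSolvable_of_not_four_dvd (hFT : OddOrder.{u})
    (h : ∀ x : G, ¬ 4 ∣ (Subgroup.centralizer ({x} : Set G)).index) : Group.IsSolvable G := by
  haveI := Fact.mk Nat.prime_two
  exact isSolvable_of_hasNormalPComplement_two hFT
    (Frobenius.hasNormalPComplement_of_not_sq_dvd (fun r hr _ => hr.two_le)
      fun g => by simpa using h g)

end CfsgLib.OddOrderApps
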